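import Groth.Agent.Nakai.Big
import Groth.Prelude.Def_NumR
import Mathlib.Topology.Algebra.Module.ModuleTopology
import Mathlib.Analysis.Convex.Combination

/-!
The cone of big classes of a projective variety: ample plus effective, and the interior of the closure of the effective cone.
-/

set_option autoImplicit false
set_option linter.style.haveILetI false
set_option linter.unusedSectionVars false
set_option backward.isDefEq.respectTransparency false
set_option backward.isDefEq.respectTransparency.types false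
set_option maxHeartbeats 400000

universe u

open CategoryTheory CategoryTheory.Limits AlgebraicGeometry TopologicalSpace Opposite Topology
open Groth.Agent.H23 Groth.Agent.H23.TrivBasic Groth.Agent.H23.PicMul

noncomputable section

namespace Groth.Agent.BigConeLib

attribute [local instance] PicMul.clMonoid

variable (k : Type u) [Field k] (X : Scheme.{u}) [X.Over (Spec (CommRingCat.of k))]

/-- Every ample module embeds in a positive power. -/
abbrev Big (L : X.Modules) : Prop :=
  ∀ A : X.Modules, CohB1.IsAmple A → ∃ (m : ℕ) (φ : A ⟶ CohB1.tensorPow L m), 0 < m ∧ Mono φ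

variable [IsIntegral X] [IsProper (X ↘ Spec (CommRingCat.of k))] [PicGrp.Law X]

variable {k X}

theorem clR_congr {L M : X.Modules} (hL : PicF.IsInvertible L) (hM : PicF.IsInvertible M)
    (e : PicF.cl L = PicF.cl M) : NumR.clR k X L hL = NumR.clR k X M hM := by
  have h : PicGrp.cls L hL = PicGrp.cls M hM := Subtype.ext e
  rw [NumR.clR_def, NumR.clR_def, ← NumR.toN1_ofMul_cls L hL, ← NumR.toN1_ofMul_cls M hM, h]

theorem clR_tensor {L M : X.Modules} (hL : PicF.IsInvertible L) (hM : PicF.IsInvertible M) :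
    NumR.clR k X (CohB1.tensorMod L M) (PicMul.isInvertible_tensor hL hM) = NumR.clR k X L hL + NumR.clR k X M hM := by
  have h : PicGrp.cls (CohB1.tensorMod L M) (PicMul.isInvertible_tensor hL hM) = PicGrp.cls L hL * PicGrp.cls M hM :=
    Subtype.ext (PicGrp.cls_mul_cls_val hL hM).symm
  simp only [NumR.clR_def, ← NumR.toN1_ofMul_cls, h, ofMul_mul, map_add]

theorem clR_eq_zero {L : X.Modules} (hL : PicF.IsInvertible L) (e : Nonempty (L ≅ Coh.structureModule X)) :
    NumR.clR k X L hL = 0 := by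
  have h : PicGrp.cls L hL = 1 := (PicGrp.cls_eq_one_iff hL).2 e
  simp only [NumR.clR_def, ← NumR.toN1_ofMul_cls, h, ofMul_one, map_zero]

theorem clR_pow {L : X.Modules} (hL : PicF.IsInvertible L) (n : ℕ) :
    NumR.clR k X (CohB1.tensorPow L n) (PicMul.isInvertible_tensorPow hL n) = (n : ℝ) • NumR.clR k X L hL := by
  have h : PicGrp.cls (CohB1.tensorPow L n) (PicMul.isInvertible_tensorPow hL n) = PicGrp.cls L hL ^ n :=
    Subtype.ext (PicGrp.cls_pow_val hL n).symm
  simp only [NumR.clR_def, ← NumR.toN1_ofMul_cls, h, ofMul_pow, map_nsmul, Nat.cast_smul_eq_nsmul]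

theorem mem_coneOf {P : X.Modules → Prop} {L : X.Modules} (hL : PicF.IsInvertible L) (h : P L) :
    NumR.clR k X L hL ∈ NumR.coneOf k X P := ConvexCone.subset_hull ⟨L, hL, h, rfl⟩

theorem mem_ampleCone {A : X.Modules} (hA : CohB1.IsAmple A) : NumR.clR k X A hA.1 ∈ NumR.ampleCone k X :=
  mem_coneOf hA.1 hA

include k in
/-- A large ample power twisted by any invertible module has a monomorphism from the structure module. -/
theorem exists_mono_unit_pow {A M : X.Modules} (hA : CohB1.IsAmple A) (hM : PicF.IsInvertible M) :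
    ∃ n₀ : ℕ, 0 < n₀ ∧ ∀ n, n₀ ≤ n → CohB1.IsAmple (CohB1.tensorMod (CohB1.tensorPow A n) M) ∧
      ∃ f : Coh.structureModule X ⟶ CohB1.tensorMod (CohB1.tensorPow A n) M, Mono f := by
  haveI := CurveCohLib.isNoetherian_of_proper (k := k) (X := X)
  haveI : X.IsSeparated := AmpleVan.isSeparated_of_proper (A := k)
  obtain ⟨n₀, h0, h⟩ := AmpleX.eventually_ample_tensor hA hM
  refine ⟨n₀, h0, fun n hn => ⟨(h n hn).1, ?_⟩⟩
  obtain ⟨s, hs⟩ := NefBig.exists_section_of_generated (h n hn).1.1 (h n hn).2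
  exact ⟨_, CurveAmple.mono_ofSect (h n hn).1.1 hs⟩

include k in
theorem big_ample {A : X.Modules} (hA : CohB1.IsAmple A) : Big X A := fun A' hA' => by
  obtain ⟨B, hB, ⟨eB⟩⟩ := PicInv.exists_inverse hA'.1
  have hBB : PicF.cl A' * PicF.cl B = 1 := by rw [← cl_tensor, PicMul.one_def]; exact cl_eq_iff.2 ⟨eB⟩
  obtain ⟨n, hn, h⟩ := exists_mono_unit_pow (k := k) hA hB
  obtain ⟨-, f, hf⟩ := h n le_rfl
  obtain ⟨g, hg⟩ := NefBig.mono_of_mono_unit f hA'.1 (Q := CohB1.tensorPow A n) (by
    rw [cl_tensor, mul_assoc, mul_comm (PicF.cl B), hBB, mul_one])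
  exact ⟨n, g, hn, hg⟩

theorem mono_of_section {E : X.Modules} (hE : PicF.IsInvertible E) {s : Coh.structureModule X ⟶ E} (hs : s ≠ 0) :
    Mono s := InvEnd.mono_of_ne_zero InvX.isInvertible_structureModule hE s hs

theorem hasSection_of_mono {E : X.Modules} (f : Coh.structureModule X ⟶ E) [Mono f] : NumR.HasSection E :=
  ⟨f, fun h => NefBig.one_ne_zero_of_mono f (by subst h; rfl)⟩

theorem big_twist {A E : X.Modules} (hA : CohB1.IsAmple A) (hE : PicF.IsInvertible E) (hEs : NumR.HasSection E)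
    (hbig : Big X A) (q : ℕ) : Big X (CohB1.tensorMod A (CohB1.tensorPow E q)) := fun A' hA' => by
  obtain ⟨m, φ, hm, hφ⟩ := hbig A' hA'
  obtain ⟨s, hs⟩ := hEs
  haveI := mono_of_section hE hs
  obtain ⟨f, hf⟩ := NefBig.mono_pow hE (NefBig.one_ne_zero_of_mono s) (q * m)
  obtain ⟨g, hg⟩ := NefBig.mono_of_mono_unit f (InvX.isInvertible_tensorPow hA.1 m)
    (Q := CohB1.tensorPow (CohB1.tensorMod A (CohB1.tensorPow E q)) m) (by
      rw [cl_tensorPow, cl_tensorPow, cl_tensorPow, cl_tensor, cl_tensorPow, mul_pow, ← pow_mul, mul_comm])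
  exact ⟨m, φ ≫ g, hm, haveI := hφ; haveI := hg; mono_comp _ _⟩

/-- An ample class plus an effective class is big. -/
theorem add_mem_big {a e : NumR.N1R k X} (ha : a ∈ NumR.ampleCone k X) (he : e ∈ NumR.effCone k X) :
    a + e ∈ NumR.coneOf k X (Big X) := by
  let C : ConvexCone ℝ (NumR.N1R k X) :=
    { carrier := {e | ∀ a ∈ NumR.ampleCone k X, a + e ∈ NumR.coneOf k X (Big X)}
      smul_mem' := fun c hc x hx a ha => by
        have h := (NumR.coneOf k X (Big X)).smul_mem hc (hx (c⁻¹ • a) ((NumR.ampleCone k X).smul_mem (inv_pos.2 hc) ha))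
        rwa [smul_add, smul_smul, mul_inv_cancel₀ hc.ne', one_smul] at h
      add_mem' := fun x hx y hy a ha => by
        have h2 := (NumR.ampleCone k X).smul_mem (inv_pos.2 two_pos) ha
        have h := (NumR.coneOf k X (Big X)).add_mem (hx _ h2) (hy _ h2)
        have e : ((2 : ℝ)⁻¹ • a + x) + ((2 : ℝ)⁻¹ • a + y) = a + (x + y) := by
          rw [show ((2 : ℝ)⁻¹ • a + x) + ((2 : ℝ)⁻¹ • a + y) = ((2 : ℝ)⁻¹ • a + (2 : ℝ)⁻¹ • a) + (x + y) by abel,
            ← add_smul, show (2 : ℝ)⁻¹ + 2⁻¹ = 1 by norm_num, one_smul]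
        rwa [e] at h }
  suffices h : NumR.effCone k X ≤ C from h he a ha
  refine ConvexCone.hull_min ?_
  rintro _ ⟨E, hE, hEs, rfl⟩ a ha
  let C' : ConvexCone ℝ (NumR.N1R k X) :=
    { carrier := {a | ∀ s : ℝ, 0 ≤ s → a + s • NumR.clR k X E hE ∈ NumR.coneOf k X (Big X)}
      smul_mem' := fun c hc x hx s hs => by
        have h := (NumR.coneOf k X (Big X)).smul_mem hc (hx (s / c) (div_nonneg hs hc.le))
        rwa [smul_add, smul_smul, mul_div_cancel₀ _ hc.ne'] at h
      add_mem' := fun x hx y hy s hs => by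
        have h := (NumR.coneOf k X (Big X)).add_mem (hx s hs) (hy 0 le_rfl)
        rwa [zero_smul, add_zero, add_right_comm] at h }
  suffices h : NumR.ampleCone k X ≤ C' by simpa using h ha 1 zero_le_one
  refine ConvexCone.hull_min ?_
  rintro _ ⟨A, hA₁, hA, rfl⟩ s hs
  rcases hs.eq_or_lt with rfl | hs
  · rw [zero_smul, add_zero]
    exact mem_coneOf hA₁ (big_ample (k := k) hA)
  obtain ⟨q, hq⟩ := exists_nat_gt s
  have hq0 : (0 : ℝ) < q := hs.trans hq
  have h1 := (NumR.coneOf k X (Big X)).smul_mem (div_pos hs hq0)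
    (mem_coneOf (PicMul.isInvertible_tensor hA₁ (PicMul.isInvertible_tensorPow hE q))
      (big_twist hA hE hEs (big_ample (k := k) hA) q))
  have h2 := (NumR.coneOf k X (Big X)).smul_mem (show (0 : ℝ) < 1 - s / q by rw [sub_pos, div_lt_one hq0]; exact hq)
    (mem_coneOf hA₁ (big_ample (k := k) hA))
  have h := (NumR.coneOf k X (Big X)).add_mem h1 h2
  rw [clR_tensor hA₁ (PicMul.isInvertible_tensorPow hE q), clR_pow hE q, smul_add, smul_smul,
    div_mul_cancel₀ _ hq0.ne', sub_smul, one_smul] at h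
  convert h using 1
  abel

theorem ample_le_eff : NumR.ampleCone k X ≤ NumR.effCone k X := by
  refine ConvexCone.hull_min ?_
  rintro _ ⟨A, hA₁, hA, rfl⟩
  obtain ⟨m, hm, h⟩ := exists_mono_unit_pow (k := k) hA InvX.isInvertible_structureModule
  obtain ⟨-, f, hf⟩ := h m le_rfl
  have h1 := (NumR.effCone k X).smul_mem (inv_pos.2 (Nat.cast_pos.2 hm : (0 : ℝ) < m))
    (mem_coneOf (PicMul.isInvertible_tensor (PicMul.isInvertible_tensorPow hA₁ m) InvX.isInvertible_structureModule)
      (hasSection_of_mono f))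
  rwa [clR_tensor (PicMul.isInvertible_tensorPow hA₁ m) InvX.isInvertible_structureModule, clR_pow hA₁ m,
    clR_eq_zero InvX.isInvertible_structureModule ⟨Iso.refl _⟩, add_zero, smul_smul,
    inv_mul_cancel₀ (Nat.cast_ne_zero.2 hm.ne'), one_smul] at h1

/-- Big classes are ample plus effective. -/
theorem exists_ample_of_big {H : X.Modules} (hH : CohB1.IsAmple H) {x : NumR.N1R k X}
    (hx : x ∈ NumR.coneOf k X (Big X)) : ∃ a ∈ NumR.ampleCone k X, x - a ∈ NumR.effCone k X := by
  let D : ConvexCone ℝ (NumR.N1R k X) :=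
    { carrier := {x | ∃ a ∈ NumR.ampleCone k X, x - a ∈ NumR.effCone k X}
      smul_mem' := fun c hc x ⟨a, ha, hxa⟩ => ⟨c • a, (NumR.ampleCone k X).smul_mem hc ha, by
        rw [← smul_sub]; exact (NumR.effCone k X).smul_mem hc hxa⟩
      add_mem' := fun x ⟨a, ha, hxa⟩ y ⟨b, hb, hyb⟩ => ⟨a + b, (NumR.ampleCone k X).add_mem ha hb, by
        rw [add_sub_add_comm]; exact (NumR.effCone k X).add_mem hxa hyb⟩ }
  refine (ConvexCone.hull_min (C := D) ?_) hx
  rintro _ ⟨L, hL, hbig, rfl⟩
  obtain ⟨m, φ, hm, hφ⟩ := hbig H hH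
  obtain ⟨B, hB, ⟨eB⟩⟩ := PicInv.exists_inverse hH.1
  obtain ⟨g, hg⟩ := NefBig.mono_twist φ hB
  have hm' : (0 : ℝ) < m := Nat.cast_pos.2 hm
  refine ⟨(m : ℝ)⁻¹ • NumR.clR k X H hH.1, (NumR.ampleCone k X).smul_mem (inv_pos.2 hm') (mem_ampleCone hH), ?_⟩
  have h1 := (NumR.effCone k X).smul_mem (inv_pos.2 hm')
    (mem_coneOf (PicMul.isInvertible_tensor (PicMul.isInvertible_tensorPow hL m) hB)
      (hasSection_of_mono (eB.inv ≫ g)))
  have h0 := clR_eq_zero (k := k) (PicMul.isInvertible_tensor hH.1 hB) ⟨eB⟩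
  rw [clR_tensor hH.1 hB] at h0
  rwa [clR_tensor (PicMul.isInvertible_tensorPow hL m) hB, clR_pow hL m, eq_neg_of_add_eq_zero_right h0, smul_add, smul_smul, inv_mul_cancel₀ hm'.ne', one_smul,
    smul_neg, ← sub_eq_add_neg] at h1

theorem mem_big_iff {H : X.Modules} (hH : CohB1.IsAmple H) {x : NumR.N1R k X} :
    x ∈ NumR.coneOf k X (Big X) ↔ ∃ a ∈ NumR.ampleCone k X, x - a ∈ NumR.effCone k X :=
  ⟨exists_ample_of_big hH, fun ⟨a, ha, h⟩ => by simpa using add_mem_big ha h⟩

/-- The ample cone is absorbing at each of its points. -/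
theorem exists_add_mem {a : NumR.N1R k X} (ha : a ∈ NumR.ampleCone k X) (v : NumR.N1R k X) :
    ∃ ε : ℝ, 0 < ε ∧ a + ε • v ∈ NumR.ampleCone k X := by
  let P : NumR.N1R k X → Prop := fun v => ∀ a ∈ NumR.ampleCone k X, ∃ ε : ℝ, 0 < ε ∧ a + ε • v ∈ NumR.ampleCone k X
  have mono : ∀ {v a : NumR.N1R k X} {ε δ : ℝ}, a ∈ NumR.ampleCone k X → 0 < δ → δ ≤ ε →
      a + ε • v ∈ NumR.ampleCone k X → a + δ • v ∈ NumR.ampleCone k X := fun {v a ε δ} ha hδ hle h => by
    rcases hle.eq_or_lt with rfl | hlt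
    · exact h
    have hε : 0 < ε := hδ.trans hlt
    have h1 := (NumR.ampleCone k X).add_mem
      ((NumR.ampleCone k X).smul_mem (show (0 : ℝ) < 1 - δ / ε by rw [sub_pos, div_lt_one hε]; exact hlt) ha)
      ((NumR.ampleCone k X).smul_mem (div_pos hδ hε) h)
    rw [smul_add, smul_smul, div_mul_cancel₀ _ hε.ne', sub_smul, one_smul] at h1
    convert h1 using 1
    abel
  have hgen : ∀ (L : X.Modules) (hL : PicF.IsInvertible L), P (NumR.clR k X L hL) := fun L hL => by
    let C : ConvexCone ℝ (NumR.N1R k X) :=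
      { carrier := {a | a ∈ NumR.ampleCone k X ∧ ∃ ε : ℝ, 0 < ε ∧ a + ε • NumR.clR k X L hL ∈ NumR.ampleCone k X}
        smul_mem' := fun c hc x ⟨hx, ε, hε, h⟩ => ⟨(NumR.ampleCone k X).smul_mem hc hx, c * ε, mul_pos hc hε, by
          rw [mul_smul, ← smul_add]; exact (NumR.ampleCone k X).smul_mem hc h⟩
        add_mem' := fun x ⟨hx, ε, hε, h⟩ y ⟨hy, _⟩ => ⟨(NumR.ampleCone k X).add_mem hx hy, ε, hε, by
          rw [add_right_comm]; exact (NumR.ampleCone k X).add_mem h hy⟩ }
    intro a ha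
    refine ((ConvexCone.hull_min (C := C) ?_) ha).2
    rintro _ ⟨A, hA₁, hA, rfl⟩
    obtain ⟨n, hn, h⟩ := exists_mono_unit_pow (k := k) hA hL
    have hn' : (0 : ℝ) < n := Nat.cast_pos.2 hn
    refine ⟨mem_ampleCone hA, (n : ℝ)⁻¹, inv_pos.2 hn', ?_⟩
    have h1 := (NumR.ampleCone k X).smul_mem (inv_pos.2 hn') (mem_ampleCone (k := k) (h n le_rfl).1)
    rwa [clR_tensor (PicMul.isInvertible_tensorPow hA₁ n) hL, clR_pow, smul_add, smul_smul, inv_mul_cancel₀ hn'.ne',
      one_smul] at h1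
  let W : Submodule ℝ (NumR.N1R k X) :=
    { carrier := {v | P v ∧ P (-v)}
      zero_mem' := ⟨fun a ha => ⟨1, one_pos, by simpa using ha⟩, fun a ha => ⟨1, one_pos, by simpa using ha⟩⟩
      add_mem' := by
        have key : ∀ v w, P v → P w → P (v + w) := fun v w hv hw a ha => by
          have h2 := (NumR.ampleCone k X).smul_mem (inv_pos.2 two_pos) ha
          obtain ⟨ε, hε, h⟩ := hv _ h2
          obtain ⟨δ, hδ, h'⟩ := hw _ h2
          refine ⟨min ε δ, lt_min hε hδ, ?_⟩
          have h3 := (NumR.ampleCone k X).add_mem (mono h2 (lt_min hε hδ) (min_le_left _ _) h)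
            (mono h2 (lt_min hε hδ) (min_le_right _ _) h')
          convert h3 using 1
          rw [smul_add, show ((2 : ℝ)⁻¹ • a + min ε δ • v) + ((2 : ℝ)⁻¹ • a + min ε δ • w) =
            ((2 : ℝ)⁻¹ • a + (2 : ℝ)⁻¹ • a) + (min ε δ • v + min ε δ • w) by abel,
            ← add_smul, show (2 : ℝ)⁻¹ + 2⁻¹ = 1 by norm_num, one_smul]
        intro v w hv hw
        exact ⟨key v w hv.1 hw.1, by rw [neg_add]; exact key _ _ hv.2 hw.2⟩
      smul_mem' := by
        have key : ∀ (r : ℝ) v, 0 < r → P v → P (r • v) := fun r v hr hv a ha => by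
          obtain ⟨ε, hε, h⟩ := hv a ha
          exact ⟨ε / r, div_pos hε hr, by rwa [smul_smul, div_mul_cancel₀ _ hr.ne']⟩
        intro r v hv
        rcases lt_trichotomy r 0 with hr | rfl | hr
        · refine ⟨?_, ?_⟩
          · rw [← neg_smul_neg]; exact key _ _ (neg_pos.2 hr) hv.2
          · rw [← neg_smul]; exact key _ _ (neg_pos.2 hr) hv.1
        · simp only [zero_smul]
          exact ⟨fun a ha => ⟨1, one_pos, by simpa using ha⟩, fun a ha => ⟨1, one_pos, by simpa using ha⟩⟩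
        · exact ⟨key _ _ hr hv.1, by rw [← smul_neg]; exact key _ _ hr hv.2⟩ }
  have hW : W = ⊤ := by
    refine top_le_iff.1 ((NumR.span_clR (k := k) (X := X)).ge.trans (Submodule.span_le.2 ?_))
    rintro _ ⟨L, hL, rfl⟩
    refine ⟨hgen L hL, ?_⟩
    obtain ⟨B, hB, e⟩ := PicInv.exists_inverse hL
    have h0 := clR_eq_zero (k := k) (PicMul.isInvertible_tensor hL hB) e
    rw [clR_tensor hL hB] at h0
    rw [← eq_neg_of_add_eq_zero_right h0]
    exact hgen B hB
  exact ((hW.ge (Submodule.mem_top (x := v))) : P v ∧ P (-v)).1 a ha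

/-- The ample cone is open. -/
theorem isOpen_ampleCone [Module.Finite ℝ (NumR.N1R k X)] : IsOpen (NumR.ampleCone k X : Set (NumR.N1R k X)) := by
  classical
  haveI := IsModuleTopology.topologicalAddGroup ℝ (NumR.N1R k X)
  rw [isOpen_iff_mem_nhds]
  intro a ha
  let b := Module.Free.chooseBasis ℝ (NumR.N1R k X)
  let ι := Module.Free.ChooseBasisIndex ℝ (NumR.N1R k X)
  choose εp hεp hp using fun i : ι => exists_add_mem ha (b i)
  choose εm hεm hm using fun i : ι => exists_add_mem ha (-b i)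
  rcases isEmpty_or_nonempty ι with hι | hι
  · haveI : Subsingleton (NumR.N1R k X) := b.repr.toEquiv.subsingleton
    exact Filter.mem_of_superset Filter.univ_mem fun x _ => Subsingleton.elim a x ▸ ha
  let N : ℝ := Fintype.card ι
  have hN : 0 < N := Nat.cast_pos.2 Fintype.card_pos
  let φ : NumR.N1R k X → ι → ℝ := fun x i => N * b.equivFun (x - a) i
  have hφ : Continuous φ := continuous_pi fun i => continuous_const.mul
    ((continuous_apply i).comp ((IsModuleTopology.continuous_of_linearMap b.equivFun.toLinearMap).comp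
      (continuous_id.sub continuous_const)))
  refine Filter.mem_of_superset ((isOpen_iInter_of_finite fun i : ι =>
    (isOpen_Ioo (a := -εm i) (b := εp i)).preimage ((continuous_apply i).comp hφ)).mem_nhds
      (Set.mem_iInter.2 fun i => ?_)) fun x hx => ?_
  · show φ a i ∈ Set.Ioo (-εm i) (εp i)
    simp only [φ, sub_self, map_zero, Pi.zero_apply, mul_zero]
    exact ⟨neg_lt_zero.2 (hεm i), hεp i⟩
  · have hmem : ∀ i : ι, a + φ x i • b i ∈ (NumR.ampleCone k X : Set (NumR.N1R k X)) := fun i => by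
      have h : φ x i ∈ Set.Ioo (-εm i) (εp i) := Set.mem_iInter.1 hx i
      rcases lt_trichotomy (φ x i) 0 with h0 | h0 | h0
      · have h1 := (NumR.ampleCone k X).convex.add_smul_mem ha (hm i) (t := -φ x i / εm i)
          ⟨div_nonneg (neg_nonneg.2 h0.le) (hεm i).le, (div_le_one (hεm i)).2 (by linarith [h.1])⟩
        rwa [smul_smul, div_mul_cancel₀ _ (hεm i).ne', neg_smul_neg] at h1
      · rw [h0, zero_smul, add_zero]; exact ha
      · have h1 := (NumR.ampleCone k X).convex.add_smul_mem ha (hp i) (t := φ x i / εp i)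
          ⟨div_nonneg h0.le (hεp i).le, (div_le_one (hεp i)).2 h.2.le⟩
        rwa [smul_smul, div_mul_cancel₀ _ (hεp i).ne'] at h1
    have h := (NumR.ampleCone k X).convex.sum_mem (t := Finset.univ) (w := fun _ : ι => N⁻¹)
      (fun _ _ => (inv_pos.2 hN).le) (by rw [Finset.sum_const, Finset.card_univ, nsmul_eq_mul]; exact mul_inv_cancel₀ hN.ne')
      fun i _ => hmem i
    have e : ∑ i : ι, N⁻¹ • (a + φ x i • b i) = x := by
      simp only [smul_add, φ, smul_smul, ← mul_assoc, inv_mul_cancel₀ hN.ne', one_mul, Finset.sum_add_distrib, b.sum_equivFun]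
      rw [← Finset.sum_smul, Finset.sum_const, Finset.card_univ, nsmul_eq_mul, b.sum_equivFun]
      show (N * N⁻¹) • a + (x - a) = x
      rw [mul_inv_cancel₀ hN.ne', one_smul, add_sub_cancel]
    rwa [e] at h

theorem isOpen_big [Module.Finite ℝ (NumR.N1R k X)] {H : X.Modules} (hH : CohB1.IsAmple H) :
    IsOpen (NumR.coneOf k X (Big X) : Set (NumR.N1R k X)) := by
  haveI := IsModuleTopology.topologicalAddGroup ℝ (NumR.N1R k X)
  have h : (NumR.coneOf k X (Big X) : Set (NumR.N1R k X)) =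
      ⋃ e ∈ (NumR.effCone k X : Set (NumR.N1R k X)), (fun x => x - e) ⁻¹' (NumR.ampleCone k X : Set (NumR.N1R k X)) := by
    ext x
    simp only [Set.mem_iUnion, Set.mem_preimage, SetLike.mem_coe, exists_prop, mem_big_iff hH]
    exact ⟨fun ⟨a, ha, he⟩ => ⟨x - a, he, by rwa [sub_sub_cancel]⟩, fun ⟨e, he, ha⟩ => ⟨x - e, ha, by rwa [sub_sub_cancel]⟩⟩
  rw [h]
  exact isOpen_biUnion fun e _ => isOpen_ampleCone.preimage (continuous_id.sub continuous_const)

theorem big_le_eff {H : X.Modules} (hH : CohB1.IsAmple H) : NumR.coneOf k X (Big X) ≤ NumR.effCone k X := fun x hx => by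
  obtain ⟨a, ha, he⟩ := exists_ample_of_big hH hx
  simpa using (NumR.effCone k X).add_mem (ample_le_eff ha) he

/-- The big cone and the pseudo-effective cone determine each other. -/
theorem big_eq_interior [Module.Finite ℝ (NumR.N1R k X)] {H : X.Modules} (hH : CohB1.IsAmple H) :
    (NumR.coneOf k X (Big X) : Set (NumR.N1R k X)) = interior (NumR.psefCone k X) ∧
      NumR.psefCone k X = closure (NumR.coneOf k X (Big X) : Set (NumR.N1R k X)) := by
  haveI := IsModuleTopology.topologicalAddGroup ℝ (NumR.N1R k X)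
  let h := NumR.clR k X H hH.1
  refine ⟨Set.Subset.antisymm (interior_maximal (fun x hx => subset_closure (big_le_eff hH hx)) (isOpen_big hH)) ?_,
    Set.Subset.antisymm (closure_minimal ?_ isClosed_closure) (closure_mono (big_le_eff hH))⟩
  · intro x hx
    have hc : Continuous fun t : ℝ => x - t • h := by fun_prop
    have h0 : (fun t : ℝ => x - t • h) ⁻¹' interior (NumR.psefCone k X) ∈ 𝓝 (0 : ℝ) :=
      (isOpen_interior.preimage hc).mem_nhds (by simpa using hx)
    obtain ⟨ε, hε, hε'⟩ := Metric.mem_nhds_iff.1 h0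
    have hy : x - (ε / 2) • h ∈ closure (NumR.effCone k X : Set (NumR.N1R k X)) :=
      interior_subset (hε' (show (ε / 2 : ℝ) ∈ Metric.ball (0 : ℝ) ε by
        rw [Metric.mem_ball, Real.dist_eq, sub_zero, abs_of_pos (half_pos hε)]; linarith))
    obtain ⟨e, he1, he2⟩ := mem_closure_iff.1 hy _
      (isOpen_ampleCone.preimage (continuous_const.sub continuous_id : Continuous fun e => x - e))
      (show x - (x - (ε / 2) • h) ∈ NumR.ampleCone k X by
        rw [sub_sub_cancel]; exact (NumR.ampleCone k X).smul_mem (half_pos hε) (mem_ampleCone hH))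
    exact (mem_big_iff hH).2 ⟨x - e, he1, by rwa [sub_sub_cancel]⟩
  · intro e he
    refine mem_closure_of_tendsto (f := fun n : ℕ => (1 / ((n : ℝ) + 1)) • h + e) (b := Filter.atTop) ?_
      (Filter.Eventually.of_forall fun n => add_mem_big ((NumR.ampleCone k X).smul_mem (by positivity) (mem_ampleCone hH)) he)
    have := ((tendsto_one_div_add_atTop_nhds_zero_nat (𝕜 := ℝ)).smul_const h).add_const e
    simpa using this

end Groth.Agent.BigConeLib
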